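import Mathlib

/-! Cyclic groups (helper3). -/

set_option autoImplicit false

namespace Cfsg.Agent.H3.Cyc

variable {G : Type*} [Group G]

theorem mem_of_orderOf_dvd_card [Finite G] [IsCyclic G] {a : G} {B : Subgroup G}
    (h : orderOf a ∣ Nat.card B) : a ∈ B := by
  classical
  haveI := Fintype.ofFinite G
  have h1 := IsCyclic.card_pow_eq_one_le (α := G) (n := Nat.card B) Nat.card_pos
  have h2 : (B : Set G).toFinset ⊆ Finset.univ.filter (fun c : G => c ^ Nat.card B = 1) := by
    intro c hc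
    rw [Set.mem_toFinset] at hc
    rw [Finset.mem_filter]
    refine ⟨Finset.mem_univ _, ?_⟩
    have := pow_card_eq_one' (x := (⟨c, hc⟩ : B))
    exact congrArg (fun z : B => (z : G)) this
  have h3 : (B : Set G).toFinset.card = Nat.card B := by
    rw [Set.toFinset_card, ← Nat.card_eq_fintype_card]; rfl
  have h4 := Finset.eq_of_subset_of_card_le h2 (by rw [h3]; exact h1)
  have h5 : a ∈ Finset.univ.filter (fun c : G => c ^ Nat.card B = 1) := by
    rw [Finset.mem_filter]
    exact ⟨Finset.mem_univ _, orderOf_dvd_iff_pow_eq_one.1 h⟩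
  rw [← h4, Set.mem_toFinset] at h5
  exact h5

theorem le_of_card_dvd [Finite G] [IsCyclic G] {A B : Subgroup G}
    (h : Nat.card A ∣ Nat.card B) : A ≤ B := fun a ha =>
  mem_of_orderOf_dvd_card ((by
    rw [← Subgroup.orderOf_mk a ha]
    exact orderOf_dvd_natCard _ : orderOf a ∣ Nat.card A).trans h)

theorem eq_of_card_eq [Finite G] [IsCyclic G] {A B : Subgroup G}
    (h : Nat.card A = Nat.card B) : A = B :=
  le_antisymm (le_of_card_dvd h.dvd) (le_of_card_dvd h.symm.dvd)

theorem mem_zpowers_of_orderOf_dvd [Finite G] {z a b : G} (ha : a ∈ Subgroup.zpowers z)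
    (hb : b ∈ Subgroup.zpowers z) (h : orderOf a ∣ orderOf b) : a ∈ Subgroup.zpowers b := by
  have hle : Subgroup.zpowers b ≤ Subgroup.zpowers z := by
    rwa [Subgroup.zpowers_le]
  have h1 : (⟨a, ha⟩ : Subgroup.zpowers z) ∈ (Subgroup.zpowers b).subgroupOf (Subgroup.zpowers z) := by
    apply mem_of_orderOf_dvd_card
    rw [Subgroup.orderOf_mk, Nat.card_congr (Subgroup.subgroupOfEquivOfLe hle).toEquiv, Nat.card_zpowers]
    exact h
  exact h1

end Cfsg.Agent.H3.Cyc
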