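import Mathlib
import Cfsg.Agent.Lib.ClassSizes
import Cfsg.Agent.H3.Basic

/-! Subgroups generated by small classes (Isaacs, Ishikawa), helper3. -/

set_option autoImplicit false

namespace Cfsg.Agent.H3.SmallClass

open Subgroup Cfsg.Agent.Lib.ClassSizes Cfsg.Agent.H3.Basic
open scoped commutatorElement

variable {G : Type*} [Group G]

theorem le_norm {H T : Subgroup G} (h : ∀ g ∈ H, ∀ t ∈ T, g * t * g⁻¹ ∈ T) :
    H ≤ normalizer (T : Set G) := by
  intro g hg
  rw [mem_normalizer_iff]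
  intro t
  refine ⟨h g hg t, fun ht => ?_⟩
  have h1 := h g⁻¹ (inv_mem hg) _ ht
  have h2 : g⁻¹ * (g * t * g⁻¹) * g⁻¹⁻¹ = t := by group
  rwa [h2] at h1

theorem key [Finite G] (A : Subgroup G) [hAn : A.Normal] (hA : ∀ a ∈ A, ∀ b ∈ A, a * b = b * a)
    {m : ℕ} (hmin : ∀ x : G, 1 < (centralizer ({x} : Set G)).index → m ≤ (centralizer ({x} : Set G)).index)
    {x : G} (hx : (centralizer ({x} : Set G)).index = m) {a : G} (ha : a ∈ A) :
    a * x * a⁻¹ * x⁻¹ ∈ center G := by
  classical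
  set C := centralizer ({x} : Set G) with hC
  have hmemA : ∀ b ∈ A, b * x * b⁻¹ * x⁻¹ ∈ A := fun b hb => by
    have h1 : x * b⁻¹ * x⁻¹ ∈ A := hAn.conj_mem _ (inv_mem hb) x
    have h2 : b * x * b⁻¹ * x⁻¹ = b * (x * b⁻¹ * x⁻¹) := by group
    rw [h2]; exact mul_mem hb h1
  let φ : A →* G :=
    { toFun := fun b => (b : G) * x * (b : G)⁻¹ * x⁻¹
      map_one' := by simp
      map_mul' := fun b c => by
        have h1 := hmemA c c.2
        have h2 := hA b b.2 _ h1
        change ((b : G) * c) * x * ((b : G) * c)⁻¹ * x⁻¹ = _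
        calc ((b : G) * c) * x * ((b : G) * c)⁻¹ * x⁻¹
            = (b * (c * x * (c : G)⁻¹ * x⁻¹)) * x * (b : G)⁻¹ * x⁻¹ := by group
          _ = ((c * x * (c : G)⁻¹ * x⁻¹) * b) * x * (b : G)⁻¹ * x⁻¹ := by rw [h2]
          _ = (c * x * (c : G)⁻¹ * x⁻¹) * (b * x * (b : G)⁻¹ * x⁻¹) := by group
          _ = _ := hA _ h1 _ (hmemA b b.2) }
  have hφ : ∀ b : A, φ b = (b : G) * x * (b : G)⁻¹ * x⁻¹ := fun _ => rfl
  set T := φ.range with hT
  have hTA : T ≤ A := by
    rintro _ ⟨b, rfl⟩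
    exact hmemA b b.2
  have hTcard : Nat.card T = C.relIndex A := by
    have h1 : φ.ker = C.subgroupOf A := by
      ext b
      rw [MonoidHom.mem_ker, mem_subgroupOf, hφ, hC, mem_centralizer_singleton]
      rw [mul_inv_eq_one, mul_inv_eq_iff_eq_mul]
    rw [← index_ker, h1]; rfl
  set B := C ⊔ A with hB
  have hBT : B ≤ normalizer (T : Set G) := by
    rw [hB]
    refine sup_le (le_norm ?_) (le_norm ?_)
    · rintro c hc _ ⟨b, rfl⟩
      refine ⟨⟨c * b * c⁻¹, hAn.conj_mem _ b.2 c⟩, ?_⟩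
      have hcx : c * x = x * c := mem_centralizer_singleton.1 hc
      have hcx' : c⁻¹ * x = x * c⁻¹ := by
        have := mem_centralizer_singleton.1 (inv_mem hc)
        exact this
      rw [hφ, hφ]
      change c * b * c⁻¹ * x * (c * b * c⁻¹)⁻¹ * x⁻¹ = _
      calc c * b * c⁻¹ * x * (c * b * c⁻¹)⁻¹ * x⁻¹
          = c * b * (c⁻¹ * x) * c * (b : G)⁻¹ * (c⁻¹ * x⁻¹) := by group
        _ = c * b * (x * c⁻¹) * c * (b : G)⁻¹ * (c⁻¹ * x⁻¹) := by rw [hcx']
        _ = c * (b * x * (b : G)⁻¹) * (x * c)⁻¹ := by group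
        _ = c * (b * x * (b : G)⁻¹) * (c * x)⁻¹ := by rw [hcx]
        _ = _ := by group
    · rintro c hc t ht
      have := hA c hc t (hTA ht)
      rw [this, mul_inv_cancel_right]; exact ht
  set y := a * x * a⁻¹ * x⁻¹ with hy
  have hyT : y ∈ T := ⟨⟨a, ha⟩, rfl⟩
  by_cases hy1 : y = 1
  · rw [hy1]; exact one_mem _
  rw [← index_centralizer_eq_one_iff]
  by_contra hne
  have hpos : (centralizer ({y} : Set G)).index ≠ 0 := index_ne_zero_of_finite
  have h1 := hmin y (by omega)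
  -- bound the class of `y`
  have hrel : (centralizer ({y} : Set G)).relIndex B ≤ Nat.card T - 1 := by
    let F : B ⧸ (centralizer ({y} : Set G)).subgroupOf B → {t : T // t ≠ 1} := fun q =>
      ⟨⟨(q.out : G) * y * (q.out : G)⁻¹, (mem_normalizer_iff.1 (hBT q.out.2) y).1 hyT⟩, by
        intro h
        have h2 : (q.out : G) * y * (q.out : G)⁻¹ = 1 := congrArg Subtype.val h
        apply hy1
        have h3 : y = (q.out : G)⁻¹ * ((q.out : G) * y * (q.out : G)⁻¹) * q.out := by group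
        rw [h3, h2]; group⟩
    have hF : Function.Injective F := by
      intro q1 q2 h
      have h2 : (q1.out : G) * y * (q1.out : G)⁻¹ = (q2.out : G) * y * (q2.out : G)⁻¹ :=
        congrArg (fun z : {t : T // t ≠ 1} => ((z : T) : G)) h
      have h3 : (q1.out)⁻¹ * q2.out ∈ (centralizer ({y} : Set G)).subgroupOf B := by
        rw [mem_subgroupOf, mem_centralizer_singleton]
        change ((q1.out : G)⁻¹ * q2.out) * y = y * ((q1.out : G)⁻¹ * q2.out)
        calc ((q1.out : G)⁻¹ * q2.out) * y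
            = (q1.out : G)⁻¹ * ((q2.out : G) * y * (q2.out : G)⁻¹) * q2.out := by group
          _ = (q1.out : G)⁻¹ * ((q1.out : G) * y * (q1.out : G)⁻¹) * q2.out := by rw [h2]
          _ = _ := by group
      have e := (QuotientGroup.eq (s := (centralizer ({y} : Set G)).subgroupOf B)).2 h3
      rwa [QuotientGroup.out_eq', QuotientGroup.out_eq'] at e
    have h2 : Nat.card {t : T // t ≠ 1} + 1 = Nat.card T := by
      have h3 := Set.ncard_sdiff_singleton_add_one (Set.mem_univ (1 : T)) (Set.toFinite _)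
      rw [Set.ncard_univ] at h3
      rw [← h3]
      congr 1
      refine Nat.card_congr (Equiv.subtypeEquivRight fun t => ?_)
      simp
    have h3 := Nat.card_le_card_of_injective F hF
    have h4 : (centralizer ({y} : Set G)).relIndex B =
      Nat.card (B ⧸ (centralizer ({y} : Set G)).subgroupOf B) := index_eq_card _
    omega
  have hBi : B.index ≠ 0 := index_ne_zero_of_finite
  have h2 : C.relIndex B * B.index = m := by
    rw [relIndex_mul_index (le_sup_left : C ≤ B)]; exact hx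
  have h3 : C.relIndex B = Nat.card T := by
    rw [hTcard, hB]; exact relIndex_sup_eq_of_normal_right C A
  have h4 : (centralizer ({y} : Set G) ⊓ B).index =
      (centralizer ({y} : Set G)).relIndex B * B.index := by
    rw [← inf_relIndex_right, relIndex_mul_index inf_le_right]
  have h5 : (centralizer ({y} : Set G)).index ≤ (centralizer ({y} : Set G) ⊓ B).index :=
    Nat.le_of_dvd (Nat.pos_of_ne_zero index_ne_zero_of_finite) (index_dvd_of_le inf_le_left)
  have h6 : (centralizer ({y} : Set G)).relIndex B * B.index ≤ (Nat.card T - 1) * B.index :=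
    Nat.mul_le_mul_right _ hrel
  have h7 : (Nat.card T - 1) * B.index < Nat.card T * B.index := by
    apply Nat.mul_lt_mul_of_pos_right _ (Nat.pos_of_ne_zero hBi)
    have : 0 < Nat.card T := Nat.card_pos
    omega
  rw [h3] at h2
  omega

/-- Isaacs: the subgroup generated by the two smallest classes has class at most 3 -/
theorem small [Finite G] (A : Subgroup G) [hAn : A.Normal] (hA : ∀ a ∈ A, ∀ b ∈ A, a * b = b * a)
    (hCA : centralizer (A : Set G) = A) {m : ℕ}
    (hmin : ∀ x : G, 1 < (centralizer ({x} : Set G)).index → m ≤ (centralizer ({x} : Set G)).index)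
    {M : Subgroup G} (hM : M = closure {x : G | (centralizer ({x} : Set G)).index = 1 ∨
      (centralizer ({x} : Set G)).index = m}) (x y z w : G) (hx : x ∈ M) (hy : y ∈ M) (hz : z ∈ M)
    : ⁅⁅⁅x, y⁆, z⁆, w⁆ = 1 := by
  have hAM : ∀ g ∈ M, ∀ a ∈ A, ∃ c ∈ center G, g * a * g⁻¹ = a * c := by
    intro g hg
    rw [hM] at hg
    induction hg using Subgroup.closure_induction with
    | mem g hg =>
      intro a ha
      have h1 : a⁻¹ * g * a⁻¹⁻¹ * g⁻¹ ∈ center G := by
        rcases hg with hg | hg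
        · have h2 := index_centralizer_eq_one_iff.1 hg
          rw [Subgroup.mem_center_iff] at h2
          rw [h2 a⁻¹]
          have : g * a⁻¹ * a⁻¹⁻¹ * g⁻¹ = 1 := by group
          rw [this]; exact one_mem _
        · exact key A hA hmin hg (inv_mem ha)
      exact ⟨_, h1, by group⟩
    | one => intro a _; exact ⟨1, one_mem _, by group⟩
    | mul g h _ _ ihg ihh =>
      intro a ha
      obtain ⟨c, hc, hc'⟩ := ihh a ha
      obtain ⟨d, hd, hd'⟩ := ihg a ha
      refine ⟨d * c, mul_mem hd hc, ?_⟩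
      calc g * h * a * (g * h)⁻¹ = g * (h * a * h⁻¹) * g⁻¹ := by group
        _ = g * (a * c) * g⁻¹ := by rw [hc']
        _ = g * a * (c * g⁻¹) := by group
        _ = g * a * (g⁻¹ * c) := by rw [Subgroup.mem_center_iff.1 hc g⁻¹]
        _ = (g * a * g⁻¹) * c := by group
        _ = a * d * c := by rw [hd']
        _ = _ := by group
    | inv g _ ih =>
      intro a ha
      obtain ⟨c, hc, hc'⟩ := ih a ha
      refine ⟨c⁻¹, inv_mem hc, ?_⟩
      have h1 : a = g⁻¹ * (a * c) * g := by rw [← hc']; group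
      have h2 := Subgroup.mem_center_iff.1 hc g
      calc g⁻¹ * a * g⁻¹⁻¹ = g⁻¹ * (a * (g * c)) * c⁻¹ := by group
        _ = g⁻¹ * (a * (c * g)) * c⁻¹ := by rw [h2]
        _ = (g⁻¹ * (a * c) * g) * c⁻¹ := by group
        _ = _ := by rw [← h1]
  have hcomm : ∀ g ∈ M, ∀ h ∈ M, ⁅g, h⁆ ∈ A := by
    intro g hg h hh
    rw [← hCA, mem_centralizer_iff]
    intro a ha
    obtain ⟨c, hc, hc'⟩ := hAM g hg a ha
    obtain ⟨d, hd, hd'⟩ := hAM h hh a ha
    have h1 : g * h * a * (g * h)⁻¹ = a * c * d := by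
      calc g * h * a * (g * h)⁻¹ = g * (h * a * h⁻¹) * g⁻¹ := by group
        _ = g * (a * d) * g⁻¹ := by rw [hd']
        _ = g * a * (d * g⁻¹) := by group
        _ = g * a * (g⁻¹ * d) := by rw [Subgroup.mem_center_iff.1 hd g⁻¹]
        _ = (g * a * g⁻¹) * d := by group
        _ = _ := by rw [hc']
    have h2 : h * g * a * (h * g)⁻¹ = a * c * d := by
      calc h * g * a * (h * g)⁻¹ = h * (g * a * g⁻¹) * h⁻¹ := by group
        _ = h * (a * c) * h⁻¹ := by rw [hc']
        _ = h * a * (c * h⁻¹) := by group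
        _ = h * a * (h⁻¹ * c) := by rw [Subgroup.mem_center_iff.1 hc h⁻¹]
        _ = (h * a * h⁻¹) * c := by group
        _ = a * d * c := by rw [hd']
        _ = a * (d * c) := by group
        _ = a * (c * d) := by rw [Subgroup.mem_center_iff.1 hd c]
        _ = _ := by group
    have hk : Commute ⁅g, h⁆ (a * c * d) := by
      change ⁅g, h⁆ * (a * c * d) = (a * c * d) * ⁅g, h⁆
      nth_rewrite 1 [← h2]
      rw [← h1, commutatorElement_def]
      group
    have hkc : Commute ⁅g, h⁆ c := Subgroup.mem_center_iff.1 hc _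
    have hkd : Commute ⁅g, h⁆ d := Subgroup.mem_center_iff.1 hd _
    have h3 := (hk.mul_right hkd.inv_right).mul_right hkc.inv_right
    have h4 : a * c * d * d⁻¹ * c⁻¹ = a := by group
    rw [h4] at h3
    exact h3.symm
  have h1 := hcomm x hx y hy
  obtain ⟨c, hc, hc'⟩ := hAM z hz _ h1
  have h2 : ⁅⁅x, y⁆, z⁆ = c⁻¹ := by
    rw [commutatorElement_def ⁅x, y⁆ z]
    have h3 : z * ⁅x, y⁆⁻¹ * z⁻¹ = (z * ⁅x, y⁆ * z⁻¹)⁻¹ := by group
    calc ⁅x, y⁆ * z * ⁅x, y⁆⁻¹ * z⁻¹ = ⁅x, y⁆ * (z * ⁅x, y⁆⁻¹ * z⁻¹) := by group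
      _ = ⁅x, y⁆ * (⁅x, y⁆ * c)⁻¹ := by rw [h3, hc']
      _ = ⁅x, y⁆ * (c⁻¹ * ⁅x, y⁆⁻¹) := by rw [mul_inv_rev]
      _ = ⁅x, y⁆ * (⁅x, y⁆⁻¹ * c⁻¹) := by rw [Subgroup.mem_center_iff.1 (inv_mem hc) ⁅x, y⁆⁻¹]
      _ = c⁻¹ := by group
  rw [h2, commutatorElement_eq_one_iff_mul_comm]
  exact (Subgroup.mem_center_iff.1 (inv_mem hc) w).symm

end Cfsg.Agent.H3.SmallClass
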