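import Mathlib
import Cfsg.Agent.Lib.SylCount
import Cfsg.Agent.Lib.Basic
import Cfsg.Agent.Lib.FrobGrp

/-! Groups with `2p+1` Sylow `p`-subgroups, helper3. -/

set_option autoImplicit false

namespace Cfsg.Agent.H3.SylDouble

open Subgroup MulAction Cfsg.Agent.Lib.SylCount Cfsg.Agent.Lib.Basic
open scoped Pointwise

universe u

section
variable {G : Type u} [Group G] [Finite G] {p : ℕ} [hp : Fact p.Prime]

theorem mem_smul_iff {g x : G} {Q : Sylow p G} :
    x ∈ ((g • Q : Sylow p G) : Subgroup G) ↔ g⁻¹ * x * g ∈ (Q : Subgroup G) := by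
  have h1 : ((g • Q : Sylow p G) : Subgroup G) = MulAut.conj g • (Q : Subgroup G) := rfl
  rw [h1, Subgroup.mem_pointwise_smul_iff_inv_smul_mem]
  have : (MulAut.conj g)⁻¹ • x = g⁻¹ * x * g := by
    rw [← map_inv]
    change g⁻¹ * x * g⁻¹⁻¹ = _
    rw [inv_inv]
  rw [this]

theorem orbit_ncard (P Q : Sylow p G) :
    (orbit (P : Subgroup G) Q).ncard = (Q : Subgroup G).relIndex P := by
  rw [← MulAction.index_stabilizer]
  have : stabilizer (P : Subgroup G) Q = (Q : Subgroup G).subgroupOf P := by
    ext x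
    rw [MulAction.mem_stabilizer_iff, mem_subgroupOf]
    change (x : G) • Q = Q ↔ _
    rw [Sylow.smul_eq_iff_mem_normalizer]
    constructor
    · intro h
      have h1 : (x : G) ∈ (P : Subgroup G) ⊓ normalizer (Q : Set G) := ⟨x.2, h⟩
      have h2 := P.2.inf_normalizer_sylow Q
      rw [h2] at h1
      exact h1.2
    · intro h
      exact le_normalizer (H := (Q : Subgroup G)) h
  rw [this]; rfl

theorem card_sylow_eq (P Q : Sylow p G) : Nat.card P = Nat.card Q :=
  Nat.card_congr (P.equiv Q).toEquiv

theorem eq_of_le {P Q : Sylow p G} (h : (P : Subgroup G) ≤ Q) : Q = P :=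
  Sylow.ext (P.3 Q.2 h)

theorem not_mem_orbit {P Q : Sylow p G} (h : Q ≠ P) : P ∉ orbit (P : Subgroup G) Q := by
  rintro ⟨g, hg⟩
  have hg' : (g : G) • Q = P := hg
  apply h
  have h1 : (g : G)⁻¹ • P = P := by
    rw [Sylow.smul_eq_iff_mem_normalizer]
    exact le_normalizer (H := (P : Subgroup G)) (inv_mem g.2)
  rw [← inv_smul_smul (g : G) Q, hg', h1]

variable (hn : Nat.card (Sylow p G) = 2 * p + 1) (hp2 : p ≠ 2)
include hn hp2

theorem orbit_card {P Q : Sylow p G} (h : Q ≠ P) : (orbit (P : Subgroup G) Q).ncard = p := by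
  have h1 := orbit_ncard P Q
  have h2 : (Q : Subgroup G).relIndex P ∣ Nat.card P := by
    rw [← inf_relIndex_right]; exact relIndex_dvd_card _ _
  obtain ⟨k, hk⟩ := P.2.exists_card_eq
  rw [hk] at h2
  obtain ⟨j, -, hj⟩ := (Nat.dvd_prime_pow hp.out).1 h2
  have h3 : (orbit (P : Subgroup G) Q).ncard ≤ 2 * p := by
    have h4 : orbit (P : Subgroup G) Q ⊆ Set.univ \ {P} := fun x hx =>
      ⟨trivial, fun hc => not_mem_orbit h (by
        have h0 : x = P := hc
        rw [h0] at hx
        exact hx)⟩
    have h5 := Set.ncard_le_ncard h4 (Set.toFinite _)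
    have h6 : (Set.univ \ {P} : Set (Sylow p G)).ncard + 1 = Nat.card (Sylow p G) := by
      rw [Set.ncard_sdiff_singleton_add_one (Set.mem_univ P) (Set.toFinite _), Set.ncard_univ]
    omega
  have hp3 : 3 ≤ p := by
    have := hp.out.two_le; omega
  have hj0 : j ≠ 0 := by
    rintro rfl
    rw [pow_zero, relIndex_eq_one] at hj
    exact h (eq_of_le hj)
  have hj1 : j < 2 := by
    by_contra hc
    push Not at hc
    have h4 : p ^ 2 ≤ p ^ j := Nat.pow_le_pow_right hp.out.pos hc
    have h5 : p ^ 2 = p * p := pow_two p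
    have h6 : 3 * p ≤ p * p := Nat.mul_le_mul_right p hp3
    rw [h1, hj] at h3
    omega
  have : j = 1 := by omega
  rw [h1, hj, this, pow_one]

theorem inter_card {P Q : Sylow p G} (h : Q ≠ P) :
    Nat.card ((P : Subgroup G) ⊓ Q : Subgroup G) * p = Nat.card P := by
  have h1 := orbit_card hn hp2 h
  rw [orbit_ncard, ← inf_relIndex_right, inf_comm] at h1
  have h2 := Cfsg.Agent.H3.Basic.card_mul_relIndex (inf_le_left : (P : Subgroup G) ⊓ Q ≤ P)
  rw [h1] at h2
  exact h2

theorem inter_smul {P Q : Sylow p G} (h : Q ≠ P) {g : G} (hg : g ∈ (P : Subgroup G)) :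
    (P : Subgroup G) ⊓ (g • Q : Sylow p G) = (P : Subgroup G) ⊓ Q := by
  have hne : g • Q ≠ P := fun hc => not_mem_orbit h ⟨⟨g, hg⟩, hc⟩
  have hnorm : (((P : Subgroup G) ⊓ Q).subgroupOf (P : Subgroup G)).Normal := by
    apply Subgroup.normal_of_index_eq_minFac_card
    have h1 := orbit_card hn hp2 h
    rw [orbit_ncard, ← inf_relIndex_right, inf_comm] at h1
    have h2 : (((P : Subgroup G) ⊓ Q).subgroupOf (P : Subgroup G)).index = p := h1
    rw [h2]
    obtain ⟨k, hk⟩ := P.2.exists_card_eq
    have hk0 : k ≠ 0 := by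
      rintro rfl
      have h3 := inter_card hn hp2 h
      rw [hk, pow_zero] at h3
      exact hp.out.one_lt.ne' (Nat.eq_one_of_mul_eq_one_left h3)
    rw [hk, Nat.Prime.pow_minFac hp.out hk0]
  symm
  apply eq_of_le_of_card_ge
  · rintro x ⟨hx1, hx2⟩
    refine ⟨hx1, ?_⟩
    have h1 := hnorm.conj_mem ⟨x, hx1⟩ (show (⟨x, hx1⟩ : (P : Subgroup G)) ∈
      ((P : Subgroup G) ⊓ Q).subgroupOf (P : Subgroup G) from ⟨hx1, hx2⟩) (⟨g, hg⟩⁻¹ : (P : Subgroup G))
    have h2 : g⁻¹ * x * g⁻¹⁻¹ ∈ (P : Subgroup G) ⊓ Q := h1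
    rw [inv_inv] at h2
    exact mem_smul_iff.2 h2.2
  · have h1 := inter_card hn hp2 h
    have h2 := inter_card hn hp2 hne
    exact (Nat.eq_of_mul_eq_mul_right hp.out.pos (h2.trans h1.symm)).le

variable (hK : ∀ g : G, (∀ Q : Sylow p G, g • Q = Q) → g = 1)
include hK

theorem card_eq_p (P : Sylow p G) : Nat.card P = p := by
  have hp3 : 3 ≤ p := by
    have := hp.out.two_le; omega
  obtain ⟨Q, hQ⟩ : ∃ Q : Sylow p G, Q ≠ P := by
    haveI : Nontrivial (Sylow p G) := by
      rw [← Finite.one_lt_card_iff_nontrivial, hn]; omega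
    exact exists_ne P
  set D := (P : Subgroup G) ⊓ Q with hD
  by_cases hD1 : D = ⊥
  · have h1 := inter_card hn hp2 hQ
    rw [← hD, hD1, card_bot, one_mul] at h1
    exact h1.symm
  · exfalso
    obtain ⟨x, hx⟩ : ∃ x : Sylow p G, ¬ D ≤ x := by
      by_contra hc
      push Not at hc
      apply hD1
      rw [eq_bot_iff]
      intro d hd
      rw [mem_bot]
      apply hK d
      intro R
      rw [Sylow.smul_eq_iff_mem_normalizer]
      exact le_normalizer (H := (R : Subgroup G)) (hc R hd)
    have hDcard : Nat.card D * p = Nat.card P := inter_card hn hp2 hQ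
    have hS : 2 < (orbit (P : Subgroup G) Q).ncard := by rw [orbit_card hn hp2 hQ]; omega
    obtain ⟨y1, y2, y3, hy1, hy2, hy3, h12, h13, h23⟩ := (Set.two_lt_ncard_iff (Set.toFinite _)).1 hS
    have hDy : ∀ y ∈ orbit (P : Subgroup G) Q, D ≤ y := by
      rintro _ ⟨g, rfl⟩
      have h1 := inter_smul hn hp2 hQ g.2
      change D ≤ ((g : G) • Q : Sylow p G)
      rw [hD, ← h1]
      exact inf_le_right
    have hne : ∀ y ∈ orbit (P : Subgroup G) Q, y ≠ x := by
      rintro y hy rfl
      exact hx (hDy y hy)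
    have hdis : ∀ y ∈ orbit (P : Subgroup G) Q, ∀ y' ∈ orbit (P : Subgroup G) Q, y ≠ y' →
        Disjoint (orbit (x : Subgroup G) y) (orbit (x : Subgroup G) y') := by
      intro y hy y' hy' hyy'
      rcases orbit.eq_or_disjoint (G := (x : Subgroup G)) y y' with h | h
      · exfalso
        have h1 : y' ∈ orbit (x : Subgroup G) y := by rw [h]; exact mem_orbit_self y'
        obtain ⟨g, hg⟩ := h1
        have hg' : (g : G) • y = y' := hg
        have h2 := inter_smul hn hp2 (hne y hy) g.2
        rw [hg'] at h2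
        have h3 : (x : Subgroup G) ⊓ y ≤ (y : Subgroup G) ⊓ y' :=
          le_inf inf_le_right (by rw [← h2]; exact inf_le_right)
        have h4 : D ≤ (y : Subgroup G) ⊓ y' := le_inf (hDy y hy) (hDy y' hy')
        have c1 := inter_card hn hp2 (hne y hy)
        have c2 := inter_card hn hp2 (Ne.symm hyy')
        rw [card_sylow_eq x P] at c1
        rw [card_sylow_eq y P] at c2
        have h5 : (x : Subgroup G) ⊓ y = (y : Subgroup G) ⊓ y' :=
          eq_of_le_of_card_ge h3 (Nat.eq_of_mul_eq_mul_right hp.out.pos (c2.trans c1.symm)).le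
        have h6 : D = (y : Subgroup G) ⊓ y' :=
          eq_of_le_of_card_ge h4 (Nat.eq_of_mul_eq_mul_right hp.out.pos (c2.trans hDcard.symm)).le
        apply hx
        rw [h6, ← h5]
        exact inf_le_left
      · exact h
    have hsub : orbit (x : Subgroup G) y1 ∪ orbit (x : Subgroup G) y2 ∪ orbit (x : Subgroup G) y3 ⊆
        Set.univ \ {x} := by
      rintro z hz
      refine ⟨trivial, fun hc => ?_⟩
      rw [Set.mem_singleton_iff] at hc
      subst hc
      rcases hz with (hz | hz) | hz
      · exact not_mem_orbit (hne y1 hy1) hz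
      · exact not_mem_orbit (hne y2 hy2) hz
      · exact not_mem_orbit (hne y3 hy3) hz
    have h5 := Set.ncard_le_ncard hsub (Set.toFinite _)
    have h6 : (Set.univ \ {x} : Set (Sylow p G)).ncard + 1 = Nat.card (Sylow p G) := by
      rw [Set.ncard_sdiff_singleton_add_one (Set.mem_univ x) (Set.toFinite _), Set.ncard_univ]
    rw [Set.ncard_union_eq (Set.disjoint_union_left.2 ⟨hdis y1 hy1 y3 hy3 h13, hdis y2 hy2 y3 hy3 h23⟩)
      (Set.toFinite _) (Set.toFinite _), Set.ncard_union_eq (hdis y1 hy1 y2 hy2 h12)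
      (Set.toFinite _) (Set.toFinite _), orbit_card hn hp2 (hne y1 hy1), orbit_card hn hp2 (hne y2 hy2),
      orbit_card hn hp2 (hne y3 hy3)] at h5
    omega

theorem inter_bot {P Q : Sylow p G} (h : Q ≠ P) : (P : Subgroup G) ⊓ Q = ⊥ := by
  have h1 := inter_card hn hp2 h
  rw [card_eq_p hn hp2 hK] at h1
  have h2 : Nat.card ((P : Subgroup G) ⊓ Q : Subgroup G) = 1 :=
    Nat.eq_of_mul_eq_mul_right hp.out.pos (by rw [h1, one_mul])
  exact card_eq_one.1 h2

theorem centralizer_free {P Q : Sylow p G} (h : Q ≠ P) {c : G}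
    (hc : c ∈ centralizer ((P : Subgroup G) : Set G)) (hcQ : c • Q = Q) : c = 1 := by
  have hcomm : ∀ g ∈ (P : Subgroup G), g * c = c * g := mem_centralizer_iff.1 hc
  have hcP : c • P = P := by
    rw [Sylow.smul_eq_iff_mem_normalizer]
    exact centralizer_le_normalizer _ hc
  have hfix1 : ∀ S ∈ orbit (P : Subgroup G) Q, c • S = S := by
    rintro _ ⟨g, rfl⟩
    change c • ((g : G) • Q) = (g : G) • Q
    rw [← mul_smul, ← hcomm g g.2, mul_smul, hcQ]
  have hcp : c ^ p = 1 := by
    apply hK
    intro R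
    by_cases hRP : R = P
    · rw [hRP]
      have : ∀ k : ℕ, c ^ k • P = P := fun k => by
        induction k with
        | zero => rw [pow_zero, one_smul]
        | succ k ih => rw [pow_succ, mul_smul, hcP, ih]
      exact this p
    · by_cases hRQ : R ∈ orbit (P : Subgroup G) Q
      · have : ∀ k : ℕ, c ^ k • R = R := fun k => by
          induction k with
          | zero => rw [pow_zero, one_smul]
          | succ k ih => rw [pow_succ, mul_smul, hfix1 R hRQ, ih]
        exact this p
      · -- third part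
        have hdis : Disjoint (orbit (P : Subgroup G) Q) (orbit (P : Subgroup G) R) := by
          rcases orbit.eq_or_disjoint (G := (P : Subgroup G)) Q R with h1 | h1
          · exact absurd (h1 ▸ mem_orbit_self R) hRQ
          · exact h1
        have hcR : c • R ∈ orbit (P : Subgroup G) R := by
          by_contra hcon
          have hsub : insert (c • R) (orbit (P : Subgroup G) Q ∪ orbit (P : Subgroup G) R) ⊆
              Set.univ \ {P} := by
            rintro z hz
            refine ⟨trivial, fun hzP => ?_⟩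
            rw [Set.mem_singleton_iff] at hzP
            subst hzP
            rcases hz with hz | hz | hz
            · apply hRP
              rw [← inv_smul_smul c R, ← hz]
              rw [inv_smul_eq_iff, hcP]
            · exact not_mem_orbit h hz
            · exact not_mem_orbit hRP hz
          have hnot : c • R ∉ orbit (P : Subgroup G) Q ∪ orbit (P : Subgroup G) R := by
            rintro (h1 | h1)
            · apply hRQ
              have h2 := hfix1 _ h1
              have h3 := MulAction.injective c h2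
              rw [h3] at h1
              exact h1
            · exact hcon h1
          have h5 := Set.ncard_le_ncard hsub (Set.toFinite _)
          rw [Set.ncard_insert_of_notMem hnot (Set.toFinite _), Set.ncard_union_eq hdis (Set.toFinite _)
            (Set.toFinite _), orbit_card hn hp2 h, orbit_card hn hp2 hRP] at h5
          have h6 : (Set.univ \ {P} : Set (Sylow p G)).ncard + 1 = Nat.card (Sylow p G) := by
            rw [Set.ncard_sdiff_singleton_add_one (Set.mem_univ P) (Set.toFinite _), Set.ncard_univ]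
          omega
        obtain ⟨g, hg⟩ := hcR
        have hg' : (g : G) • R = c • R := hg
        have : ∀ k : ℕ, c ^ k • R = (g : G) ^ k • R := fun k => by
          induction k with
          | zero => rw [pow_zero, pow_zero]
          | succ k ih =>
            have e1 : (g : G) ^ k * c = c * (g : G) ^ k := hcomm _ (pow_mem g.2 k)
            rw [pow_succ', mul_smul, ih, ← mul_smul, ← e1, mul_smul, ← hg', ← mul_smul, ← pow_succ]
        rw [this p]
        have h1 : (g : G) ^ p = 1 := by
          have h2 : g ^ Nat.card P = 1 := pow_card_eq_one'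
          rw [card_eq_p hn hp2 hK] at h2
          exact congrArg Subtype.val h2
        rw [h1, one_smul]
  have hz : IsPGroup p (zpowers c) := by
    have h1 : Nat.card (zpowers c) ∣ p ^ 1 := by
      rw [Nat.card_zpowers, pow_one]; exact orderOf_dvd_of_pow_eq_one hcp
    obtain ⟨j, -, hj⟩ := (Nat.dvd_prime_pow hp.out).1 h1
    exact IsPGroup.of_card hj
  have hcP' : c ∈ (P : Subgroup G) := by
    have h1 : c ∈ zpowers c ⊓ normalizer (P : Set G) :=
      ⟨mem_zpowers c, Sylow.smul_eq_iff_mem_normalizer.1 hcP⟩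
    rw [hz.inf_normalizer_sylow P] at h1
    exact h1.2
  have hcQ' : c ∈ (Q : Subgroup G) := by
    have h1 : c ∈ zpowers c ⊓ normalizer (Q : Set G) :=
      ⟨mem_zpowers c, Sylow.smul_eq_iff_mem_normalizer.1 hcQ⟩
    rw [hz.inf_normalizer_sylow Q] at h1
    exact h1.2
  have h1 : c ∈ (P : Subgroup G) ⊓ Q := ⟨hcP', hcQ'⟩
  rw [inter_bot hn hp2 hK h, mem_bot] at h1
  exact h1

theorem card_centralizer_dvd (P : Sylow p G) :
    Nat.card (centralizer ((P : Subgroup G) : Set G)) ∣ 2 * p := by
  obtain ⟨Q, hQ⟩ : ∃ Q : Sylow p G, Q ≠ P := by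
    haveI : Nontrivial (Sylow p G) := by
      have := hp.out.pos
      rw [← Finite.one_lt_card_iff_nontrivial, hn]; omega
    exact exists_ne P
  set C := centralizer ((P : Subgroup G) : Set G)
  have hCP : ∀ c : C, (c : G) • P = P := fun c => by
    rw [Sylow.smul_eq_iff_mem_normalizer]
    exact centralizer_le_normalizer _ c.2
  let X : SubMulAction C (Sylow p G) :=
    { carrier := {P}ᶜ
      smul_mem' := fun c x hx hc => hx (by
        have hc' : (c : G) • x = P := hc
        rw [Set.mem_singleton_iff, ← inv_smul_smul (c : G) x, hc', inv_smul_eq_iff, hCP]) }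
  have hX : Nat.card X = 2 * p := by
    have h1 : Nat.card X = ({P}ᶜ : Set (Sylow p G)).ncard := rfl
    have h6 : ({P}ᶜ : Set (Sylow p G)).ncard + 1 = Nat.card (Sylow p G) := by
      rw [Set.compl_eq_univ_sdiff, Set.ncard_sdiff_singleton_add_one (Set.mem_univ P) (Set.toFinite _), Set.ncard_univ]
    omega
  rw [← hX]
  refine Cfsg.Agent.Lib.FrobGrp.card_dvd_of_free fun x => ?_
  rw [eq_bot_iff]
  intro c hx
  rw [mem_bot]
  apply Subtype.ext
  have h1 : (c : G) • (x : Sylow p G) = x := congrArg Subtype.val hx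
  exact centralizer_free hn hp2 hK x.2 c.2 h1

variable (hA : ∀ N : Subgroup G, N.Normal → ¬ p ∣ N.index → N = ⊤)
include hA

theorem card_centralizer (P : Sylow p G) :
    Nat.card (centralizer ((P : Subgroup G) : Set G)) = p := by
  classical
  have h1 := card_centralizer_dvd hn hp2 hK P
  have hPC : (P : Subgroup G) ≤ centralizer ((P : Subgroup G) : Set G) := by
    haveI : IsCyclic P := isCyclic_of_prime_card (card_eq_p hn hp2 hK P)
    haveI : IsMulCommutative P := inferInstance
    exact le_centralizer _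
  have h2 : p ∣ Nat.card (centralizer ((P : Subgroup G) : Set G)) := by
    have := card_dvd_of_le hPC
    rwa [card_eq_p hn hp2 hK P] at this
  obtain ⟨k, hk⟩ := h2
  have hpp := hp.out.pos
  have hk2 : k ∣ 2 := by
    rw [hk, mul_comm 2 p] at h1
    exact (Nat.mul_dvd_mul_iff_left hpp).1 h1
  rcases (Nat.dvd_prime Nat.prime_two).1 hk2 with rfl | rfl
  · rw [hk, mul_one]
  · exfalso
    haveI := Fintype.ofFinite (Sylow p G)
    haveI : Fact (Nat.Prime 2) := ⟨Nat.prime_two⟩
    obtain ⟨t, ht⟩ := exists_prime_orderOf_dvd_card' (G := centralizer ((P : Subgroup G) : Set G)) 2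
      (by rw [hk]; exact dvd_mul_left 2 p)
    have ht1 : (t : G) ≠ 1 := by
      intro h
      rw [OneMemClass.coe_eq_one] at h
      rw [h, orderOf_one] at ht
      omega
    have ht2 : (t : G) ^ 2 = 1 := by
      have := pow_orderOf_eq_one t
      rw [ht] at this
      exact congrArg Subtype.val this
    let τ : Equiv.Perm (Sylow p G) := MulAction.toPermHom G (Sylow p G) t
    have hτ : ∀ Q : Sylow p G, τ Q = (t : G) • Q := fun _ => rfl
    have htP : (t : G) • P = P := by
      rw [Sylow.smul_eq_iff_mem_normalizer]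
      exact centralizer_le_normalizer _ t.2
    have hsupp : τ.support = Finset.univ.erase P := by
      ext Q
      rw [Equiv.Perm.mem_support, Finset.mem_erase]
      constructor
      · intro h
        refine ⟨fun hc => h (by rw [hc]; exact htP), Finset.mem_univ _⟩
      · rintro ⟨h, -⟩ hc
        exact ht1 (centralizer_free hn hp2 hK h t.2 hc)
    have hsc : τ.support.card = 2 * p := by
      rw [hsupp, Finset.card_erase_of_mem (Finset.mem_univ _), Finset.card_univ,
        ← Nat.card_eq_fintype_card, hn]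
      omega
    have hord : orderOf τ = 2 := by
      apply orderOf_eq_prime
      · have : τ ^ 2 = MulAction.toPermHom G (Sylow p G) ((t : G) ^ 2) := by rw [map_pow]
        rw [this, ht2, map_one]
      · intro h
        rw [h, Equiv.Perm.support_one, Finset.card_empty] at hsc
        omega
    obtain ⟨n, hct⟩ := Equiv.Perm.cycleType_prime_order (σ := τ) (by rw [hord]; exact Nat.prime_two)
    rw [hord] at hct
    have hsum := τ.sum_cycleType
    rw [hct, Multiset.sum_replicate, hsc, smul_eq_mul] at hsum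
    have hnp : n + 1 = p := by omega
    have hsign : Equiv.Perm.sign τ = -1 := by
      rw [Equiv.Perm.sign_of_cycleType, hct, Multiset.sum_replicate, Multiset.card_replicate, hnp,
        smul_eq_mul, pow_add, pow_mul, mul_comm]
      have hodd : Odd p := hp.out.odd_of_ne_two hp2
      rw [Odd.neg_one_pow hodd]
      simp [mul_comm p 2, pow_mul]
    let φ : G →* ℤˣ := Equiv.Perm.sign.comp (MulAction.toPermHom G (Sylow p G))
    have hφ : φ t = -1 := hsign
    have hidx : φ.ker.index ∣ 2 := by
      rw [index_ker]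
      have h3 : Nat.card φ.range ∣ Nat.card ℤˣ := card_subgroup_dvd_card _
      have h4 : Nat.card ℤˣ = 2 := by rw [Nat.card_eq_fintype_card]; rfl
      rwa [h4] at h3
    have htop := hA φ.ker inferInstance (fun h => by
      have h3 := h.trans hidx
      rw [Nat.prime_dvd_prime_iff_eq hp.out Nat.prime_two] at h3
      exact hp2 h3)
    have h5 : (t : G) ∈ φ.ker := by rw [htop]; trivial
    rw [MonoidHom.mem_ker, hφ] at h5
    exact absurd h5 (by decide)

theorem card_normalizer_dvd (P : Sylow p G) : ∃ d, d ∣ p - 1 ∧ Odd d ∧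
    Nat.card (normalizer ((P : Subgroup G) : Set G)) = p * d ∧ Nat.card G = (2 * p + 1) * (p * d) := by
  classical
  haveI hcyc : IsCyclic P := isCyclic_of_prime_card (card_eq_p hn hp2 hK P)
  set N := normalizer ((P : Subgroup G) : Set G) with hN
  set C := centralizer ((P : Subgroup G) : Set G) with hC
  have hCN : C ≤ N := centralizer_le_normalizer _
  have hCc : Nat.card C = p := card_centralizer hn hp2 hK hA P
  have h1 : C.relIndex N ∣ Nat.card (MulAut P) := relIndex_centralizer_dvd _
  rw [IsCyclic.card_mulAut, card_eq_p hn hp2 hK P, Nat.totient_prime hp.out] at h1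
  have h2 := Cfsg.Agent.H3.Basic.card_mul_relIndex hCN
  rw [hCc] at h2
  have h3 : Nat.card G = (2 * p + 1) * (p * C.relIndex N) := by
    have h4 := N.card_mul_index
    have h5 : N.index = 2 * p + 1 := by rw [← hn]; exact P.card_eq_index_normalizer.symm
    rw [h5, ← h2] at h4
    rw [← h4]; ring
  refine ⟨C.relIndex N, h1, ?_, h2.symm, h3⟩
  rw [← Nat.not_even_iff_odd]
  intro hev
  haveI : Fact (Nat.Prime 2) := ⟨Nat.prime_two⟩
  obtain ⟨T0⟩ := (inferInstance : Nonempty (Sylow 2 N))
  have hodd : Odd p := hp.out.odd_of_ne_two hp2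
  -- `T0` is cyclic
  have hT0 : IsCyclic T0 := by
    let f : T0 →* MulAut P := ((P : Subgroup G).normalizerMonoidHom).comp (T0 : Subgroup N).subtype
    have hf : Function.Injective f := by
      rw [injective_iff_map_eq_one]
      intro x hx
      have h4 : (x : N) ∈ ((P : Subgroup G).normalizerMonoidHom).ker := hx
      rw [normalizerMonoidHom_ker] at h4
      have h5 : ((x : N) : G) ∈ C := h4
      have h6 : orderOf ((x : N) : G) ∣ p := by
        have := Subgroup.orderOf_dvd_natCard C h5
        rwa [hCc] at this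
      obtain ⟨k, hk⟩ := IsPGroup.iff_orderOf.1 T0.2 x
      rw [Subgroup.orderOf_coe, Subgroup.orderOf_coe, hk] at h6
      have hk0 : k = 0 := by
        by_contra hk0
        have h7 : 2 ∣ p := (dvd_pow_self 2 hk0).trans h6
        exact (Nat.not_even_iff_odd.2 hodd) (even_iff_two_dvd.2 h7)
      rw [hk0, pow_zero, orderOf_eq_one_iff] at hk
      exact hk
    haveI : IsCyclic (MulAut P) := by
      have e := IsCyclic.mulAutMulEquiv (G := P)
      rw [card_eq_p hn hp2 hK P] at e
      haveI : IsCyclic (ZMod p)ˣ := inferInstance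
      exact isCyclic_of_surjective e.symm e.symm.surjective
    exact isCyclic_of_injective f hf
  obtain ⟨T, hT⟩ := (T0.2.map N.subtype).exists_le_sylow
  have hTcard : Nat.card T = Nat.card T0 := by
    have h4 : Nat.card ((T0 : Subgroup N).map N.subtype) = Nat.card T0 :=
      Nat.card_congr ((T0 : Subgroup N).equivMapOfInjective _ N.subtype_injective).toEquiv.symm
    rw [T.card_eq_multiplicity, T0.card_eq_multiplicity]
    congr 1
    rw [h3]
    have h5 : Nat.card N = p * C.relIndex N := h2.symm
    rw [h5]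
    rw [Nat.factorization_mul (by omega) (by rw [h2]; exact Nat.card_pos.ne'), Finsupp.add_apply,
      Nat.factorization_eq_zero_of_not_dvd (by omega : ¬ 2 ∣ 2 * p + 1), zero_add]
  have hTe : (T0 : Subgroup N).map N.subtype = T := by
    apply eq_of_le_of_card_ge hT
    rw [hTcard]
    exact (Nat.card_congr ((T0 : Subgroup N).equivMapOfInjective _ N.subtype_injective).toEquiv).le
  have hTc : IsCyclic T := by
    have e := (T0 : Subgroup N).equivMapOfInjective _ N.subtype_injective
    have : IsCyclic ((T0 : Subgroup N).map N.subtype) := isCyclic_of_surjective e e.surjective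
    rw [hTe] at this
    exact this
  have h2G : 2 ∣ Nat.card G := by
    rw [h3]
    exact Dvd.dvd.mul_left (Dvd.dvd.mul_left (even_iff_two_dvd.1 hev) _) _
  have hmin : (Nat.card G).minFac = 2 := (Nat.minFac_eq_two_iff _).2 h2G
  have hcomp := IsCyclic.isComplement' hmin hTc
  set K := (MonoidHom.transferSylow T (hTc.normalizer_le_centralizer hmin)).ker
  have hKi : K.index = Nat.card T := hcomp.symm.index_eq_card
  obtain ⟨k, hk⟩ := T.2.exists_card_eq
  have hKtop := hA K inferInstance (by
    rw [hKi, hk]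
    intro h
    have h4 := hp.out.dvd_of_dvd_pow h
    rw [Nat.prime_dvd_prime_iff_eq hp.out Nat.prime_two] at h4
    exact hp2 h4)
  rw [hKtop, index_top] at hKi
  have h2T : 2 ∣ Nat.card T := T.dvd_card_of_dvd_card h2G
  rw [← hKi] at h2T
  omega

theorem dvd_card_normal {N : Subgroup G} (hN : N.Normal) (hN1 : N ≠ ⊥) : 2 * p + 1 ∣ Nat.card N := by
  obtain ⟨P⟩ := (inferInstance : Nonempty (Sylow p G))
  haveI := hN
  set A := normalizer ((P : Subgroup G) : Set G) with hAdef
  have hAi : A.index = 2 * p + 1 := by rw [← hn]; exact P.card_eq_index_normalizer.symm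
  have h1 : A.relIndex N ∣ 2 * p + 1 := by
    rw [← hAi]; exact Cfsg.Agent.H3.Basic.relIndex_dvd_index_of_normal_right _ _
  have hPX : (P : Subgroup G) ≤ (P : Subgroup G) ⊔ N := le_sup_left
  have h2 : Nat.card (Sylow p ((P : Subgroup G) ⊔ N : Subgroup G)) = A.relIndex N := by
    rw [card_sylow_of_le P hPX, ← inf_relIndex_right]
    have h3 : (A ⊓ ((P : Subgroup G) ⊔ N)).relIndex ((P : Subgroup G) ⊔ N) =
        (A ⊓ ((P : Subgroup G) ⊔ N)).relIndex N := by
      apply relIndex_eq_of_sup_normalizes _ inf_le_right le_sup_right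
      · exact sup_le ((le_inf le_normalizer hPX).trans le_sup_left) le_sup_right
      · rw [normalizer_eq_top_iff.2 hN]; exact le_top
    have h4 : ((P : Subgroup G) ⊔ N) ⊓ N = N := inf_eq_right.2 le_sup_right
    rw [h3, ← inf_relIndex_right, ← inf_relIndex_right A N, inf_assoc, h4]
  have h3 : A.relIndex N ≡ 1 [MOD p] := by
    rw [← h2]; exact card_sylow_modEq_one p _
  obtain ⟨m, hm⟩ : ∃ m, A.relIndex N = m := ⟨_, rfl⟩
  rw [hm] at h1 h3
  have hm1 : 1 ≤ m := Nat.pos_of_dvd_of_pos h1 (by omega)
  have h4 : p ∣ m - 1 := (Nat.modEq_iff_dvd' hm1).1 h3.symm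
  obtain ⟨k, hk⟩ := h4
  have hmle : m ≤ 2 * p + 1 := Nat.le_of_dvd (by omega) h1
  have hpp := hp.out.two_le
  have hk3 : k ≤ 2 := by
    by_contra hc
    have h5 : p * 3 ≤ p * k := Nat.mul_le_mul_left p (by omega)
    omega
  have hm2 : m = p * k + 1 := by omega
  rcases (by omega : k = 0 ∨ k = 1 ∨ k = 2) with rfl | rfl | rfl
  · exfalso
    apply hN1
    rw [mul_zero, zero_add] at hm2
    rw [hm2, relIndex_eq_one] at hm
    rw [eq_bot_iff]
    intro g hg
    rw [mem_bot]
    apply hK
    intro Q
    obtain ⟨x, rfl⟩ := MulAction.exists_smul_eq G P Q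
    have h5 : x⁻¹ * g * x ∈ A := hm (by
      have := hN.conj_mem g hg x⁻¹
      rwa [inv_inv] at this)
    have h6 : (x⁻¹ * g * x) • P = P := Sylow.smul_eq_iff_mem_normalizer.2 h5
    rw [mul_smul, mul_smul, inv_smul_eq_iff] at h6
    exact h6
  · exfalso
    rw [hm2, mul_one] at h1
    have h5 : p + 1 ∣ 2 * (p + 1) - (2 * p + 1) := Nat.dvd_sub (dvd_mul_left _ _) h1
    have h6 : 2 * (p + 1) - (2 * p + 1) = 1 := by omega
    rw [h6, Nat.dvd_one] at h5
    omega
  · have : m = 2 * p + 1 := by omega
    rw [← this, ← hm]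
    exact relIndex_dvd_card _ _

end

/-- reduction to the minimal case -/
theorem reduce {p : ℕ} [hp : Fact p.Prime] (hp2 : p ≠ 2)
    (H : ∀ (G : Type u) [Group G] [Finite G],
      (∀ N : Subgroup G, N.Normal → N ≠ ⊥ → 2 * p + 1 ∣ Nat.card N) →
      (∀ N : Subgroup G, N.Normal → ¬ p ∣ N.index → N = ⊤) →
      (∃ d, d ∣ p - 1 ∧ Odd d ∧ Nat.card G = (2 * p + 1) * (p * d)) → False) (n : ℕ) :
    ∀ (G : Type u) [Group G] [Finite G], Nat.card G = n → Nat.card (Sylow p G) ≠ 2 * p + 1 := by
  induction n using Nat.strong_induction_on with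
  | _ n ih =>
  intro G _ _ hG hn
  have hA : ∀ N : Subgroup G, N.Normal → ¬ p ∣ N.index → N = ⊤ := by
    intro N hN hi
    by_contra hne
    haveI := hN
    have h1 := card_sylow_normal N hi
    exact ih (Nat.card N) (by rw [← hG]; exact card_lt_of_ne_top hne) N rfl (by rw [← h1, hn])
  have hK : ∀ g : G, (∀ Q : Sylow p G, g • Q = Q) → g = 1 := by
    let K := (MulAction.toPermHom G (Sylow p G)).ker
    have hKbot : K = ⊥ := by
      by_contra hne
      obtain ⟨P⟩ := (inferInstance : Nonempty (Sylow p G))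
      have hKle : K ≤ normalizer ((P : Subgroup G) : Set G) := by
        intro g hg
        have h1 : MulAction.toPermHom G (Sylow p G) g = 1 := hg
        have h2 : g • P = P := by
          have := congrArg (fun σ : Equiv.Perm (Sylow p G) => σ P) h1
          exact this
        exact Sylow.smul_eq_iff_mem_normalizer.1 h2
      have h1 := card_sylow_quotient_of_le K P hKle
      exact ih (Nat.card (G ⧸ K)) (by rw [← hG]; exact card_quotient_lt hne) (G ⧸ K) rfl (by rw [h1, hn])
    intro g hg
    have h1 : g ∈ K := by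
      change MulAction.toPermHom G (Sylow p G) g = 1
      apply Equiv.ext
      exact hg
    rw [hKbot, mem_bot] at h1
    exact h1
  obtain ⟨P⟩ := (inferInstance : Nonempty (Sylow p G))
  obtain ⟨d, hd1, hd2, -, hd3⟩ := card_normalizer_dvd hn hp2 hK hA P
  exact H G (fun N hN hN1 => dvd_card_normal hn hp2 hK hA hN hN1) hA ⟨d, hd1, hd2, hd3⟩

/-- no normal Sylow `q`-subgroup, and Burnside for Sylow `q`-subgroups of order `q` -/
theorem burnside_final {G : Type u} [Group G] [Finite G] {m q : ℕ} [hq : Fact q.Prime]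
    (hnorm : ∀ N : Subgroup G, N.Normal → N ≠ ⊥ → m ∣ Nat.card N) (hqm : q ∣ m) (hqm' : m ≠ q)
    (hq1 : q ∣ Nat.card G) (hq2 : ¬ q ^ 2 ∣ Nat.card G)
    (hcop : ∀ Q : Sylow q G, (Nat.card (normalizer ((Q : Subgroup G) : Set G))).Coprime (q - 1)) :
    False := by
  obtain ⟨Q⟩ := (inferInstance : Nonempty (Sylow q G))
  have hQc : Nat.card Q = q := by
    obtain ⟨k, hk⟩ := Q.2.exists_card_eq
    have h1 : q ∣ Nat.card Q := Q.dvd_card_of_dvd_card hq1
    have hk0 : k ≠ 0 := by
      rintro rfl
      rw [hk, pow_zero, Nat.dvd_one] at h1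
      exact hq.out.one_lt.ne' h1
    have hk2 : k < 2 := by
      by_contra hc
      push Not at hc
      apply hq2
      have h2 : q ^ k ∣ Nat.card G := by rw [← hk]; exact card_subgroup_dvd_card _
      exact (pow_dvd_pow q hc).trans h2
    have : k = 1 := by omega
    rw [hk, this, pow_one]
  haveI hcyc : IsCyclic Q := isCyclic_of_prime_card hQc
  have hNC : normalizer ((Q : Subgroup G) : Set G) ≤ centralizer ((Q : Subgroup G) : Set G) := by
    rw [← relIndex_eq_one]
    have h1 := relIndex_centralizer_dvd (Q : Subgroup G)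
    rw [IsCyclic.card_mulAut, hQc, Nat.totient_prime hq.out] at h1
    exact Nat.eq_one_of_dvd_coprimes (hcop Q) (relIndex_dvd_card _ _) h1
  have hcomp := MonoidHom.ker_transferSylow_isComplement' Q hNC
  set K := (MonoidHom.transferSylow Q hNC).ker
  have hKi : K.index = q := by rw [hcomp.symm.index_eq_card]; exact hQc
  have hKc : Nat.card K * q = Nat.card G := by rw [← hKi]; exact K.card_mul_index
  by_cases hK1 : K = ⊥
  · rw [hK1, card_bot, one_mul] at hKc
    have hGnt : (⊤ : Subgroup G) ≠ ⊥ := by
      intro h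
      have := congrArg (fun H : Subgroup G => Nat.card H) h
      simp only [card_top, card_bot] at this
      rw [← hKc] at this
      exact hq.out.one_lt.ne' this
    have h2 := hnorm ⊤ inferInstance hGnt
    rw [card_top, ← hKc, Nat.dvd_prime hq.out] at h2
    rcases h2 with h2 | h2
    · rw [h2, Nat.dvd_one] at hqm
      exact hq.out.one_lt.ne' hqm
    · exact hqm' h2
  · have h2 := hnorm K inferInstance hK1
    apply hq2
    rw [← hKc, pow_two]
    exact Nat.mul_dvd_mul_right (hqm.trans h2) q

end Cfsg.Agent.H3.SylDouble
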